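import Groth.Agent.Lib.FibVA20.Mono
import Groth.Agent.S10861
import Groth.Agent.Lib.ProjQ8.Bundle
import Groth.Agent.Lib.ProjAlg.Proper
import Groth.Agent.Lib.FormalExist7.PushTwist
import Mathlib.AlgebraicGeometry.ZariskisMainTheorem

/-!
# Fibrewise very ample implies relatively very ample
-/

set_option autoImplicit false
set_option linter.style.haveILetI false
set_option backward.isDefEq.respectTransparency false
set_option maxHeartbeats 1000000

universe u

noncomputable section

open CategoryTheory CategoryTheory.Limits AlgebraicGeometry Opposite TopologicalSpace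

namespace GrothLib.FibVA20

open VA

variable {X S : Scheme.{u}} (f : X ⟶ S) [IsProper f] [Flat f] [IsLocallyNoetherian S] {L : X.Modules}

theorem isRelVeryAmple_of_fibrewise (hL : PicF.IsInvertible L)
    (hva : ∀ y : S, RelAmple.IsRelVeryAmplePn (f.fiberToSpecResidueField y) ((Scheme.Modules.pullback (f.fiberι y)).obj L))
    (hH1 : ∀ y : S, Subsingleton (Coh.HH (f.fiber y) ((Scheme.Modules.pullback (f.fiberι y)).obj L) 1)) :
    RelProj.IsRelVeryAmple f L := by
  haveI : IsLocallyNoetherian X := LocallyOfFiniteType.isLocallyNoetherian f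
  have hcoh := FormalExist7.isCoh_pushforward f (Euler.isCoh_of_isInvertible hL)
  obtain ⟨B, hB⟩ := exists_bdl ((Scheme.Modules.pushforward f).obj L) hcoh.1
  let φ : B.E ⟶ (Scheme.Modules.pushforward f).obj L := eqToHom hB
  have hφ : ∀ U : S.Opens, IsAffineOpen U → Function.Surjective (φ.app U) := fun U _ =>
    (ConcreteCategory.bijective_of_isIso (φ.app U)).2
  obtain ⟨r, θ, h⟩ := Bdl.exists_lift (B := B) (g := f) (φ := φ) (isGenBy_of_fibre f hL hva hH1 φ hφ)
  have hft : CohB1.IsFT B.E := by rw [hB]; exact hcoh.2
  haveI : IsProper B.p := by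
    have h0 := isProjective_of_isClosedImmersion_bundle B.isQCoh hft B.isSym B.isProj (𝟙 B.P)
    rw [Category.id_comp] at h0
    exact ProjAlg.isProper_of_isProjective h0
  haveI : IsClosedImmersion r := by
    have hy : ∀ y : S, ∃ U : S.Opens, y ∈ U ∧ IsClosedImmersion (r ∣_ (B.p ⁻¹ᵁ U)) := fun y => by
      refine (Groth.Agent.S10861.result r f B.p h.comp y).2 ?_
      haveI := mono_fiberMapOver f hL hva hH1 h hφ y
      haveI : IsProper (CohIII.fiberMapOver r f B.p h.comp y) := by
        haveI : IsProper (pullback.snd f (S.fromSpecResidueField y)) := inferInstance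
        haveI : IsProper (CohIII.fiberMapOver r f B.p h.comp y ≫ pullback.snd B.p (S.fromSpecResidueField y)) := by
          simp only [CohIII.fiberMapOver, pullback.lift_snd, Category.comp_id]
          infer_instance
        exact MorphismProperty.of_postcomp @IsProper (CohIII.fiberMapOver r f B.p h.comp y)
          (pullback.snd B.p (S.fromSpecResidueField y)) (inferInstance : IsSeparated _) this
      exact (IsClosedImmersion.iff_isProper_and_mono _).2 ⟨inferInstance, inferInstance⟩
    choose U hyU hU using hy
    refine IsZariskiLocalAtTarget.of_iSup_eq_top (P := @IsClosedImmersion) (fun y => B.p ⁻¹ᵁ U y)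
      (eq_top_iff.2 fun z _ => Opens.mem_iSup.2 ⟨B.p z, hyU (B.p z)⟩) hU
  exact h.isRelVeryAmple inferInstance

end GrothLib.FibVA20
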